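import Cfsg.Agent.Lib.Char.PResidual

/-!
Camina pairs: vanishing of characters and extensions of characters of the kernel.
-/

set_option autoImplicit false
set_option linter.unusedSectionVars false
set_option linter.style.haveILetI false

namespace CfsgLib.Camina

open Cfsg CfsgLib.Char
open scoped ComplexConjugate CfsgLib.Char

variable {G : Type*} [Group G] [Finite G]

/-- The Camina condition. -/
def Pair (N : Subgroup G) : Prop := ∀ g : G, g ∉ N → ∀ n ∈ N, ∃ x : G, x * g * x⁻¹ = g * n

variable {N : Subgroup G} [N.Normal]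

theorem vanish (hN : Pair N) {χ : G → ℂ} (hχ : IsCharacter G χ) [Fintype N]
    (h1 : classInner (fun n : N => χ n) (fun _ => (1 : ℂ)) = 0) {g : G} (hg : g ∉ N) : χ g = 0 := by
  obtain ⟨d, ρ, rfl⟩ := hχ
  have hsum : ∑ n : N, ρ.character (n : G) = 0 := by
    have h := h1
    simp only [classInner, map_one, mul_one] at h
    exact (mul_eq_zero.1 h).resolve_left (inv_ne_zero (Nat.cast_ne_zero.2 Nat.card_pos.ne'))
  have hc : (Fintype.card N : ℂ) ≠ 0 := Nat.cast_ne_zero.2 Fintype.card_ne_zero
  set P : Module.End ℂ (Fin d → ℂ) := (Fintype.card N : ℂ)⁻¹ • ∑ n : N, ρ (n : G) with hP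
  have hmul : ∀ m : N, ρ (m : G) * ∑ n : N, ρ (n : G) = ∑ n : N, ρ (n : G) := fun m => by
    rw [Finset.mul_sum]
    refine Fintype.sum_equiv (Equiv.mulLeft m) _ _ fun n => ?_
    rw [← map_mul]
    rfl
  have hidem : IsIdempotentElem P := by
    show P * P = P
    rw [hP, smul_mul_smul_comm, Finset.sum_mul]
    simp only [hmul]
    rw [Finset.sum_const, Finset.card_univ, ← Nat.cast_smul_eq_nsmul ℂ, smul_smul, mul_assoc,
      inv_mul_cancel₀ hc, mul_one]
  have htr : LinearMap.trace ℂ _ P = 0 := by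
    rw [hP, map_smul, map_sum]
    show _ • ∑ n : N, ρ.character (n : G) = 0
    rw [hsum, smul_zero]
  have hrange : Module.finrank ℂ (LinearMap.range P) = 0 := by
    have := ((LinearMap.isProj_range_iff_isIdempotentElem P).2 hidem).trace
    rw [htr] at this
    exact_mod_cast this.symm
  have hP0 : P = 0 := LinearMap.range_eq_bot.1 (Submodule.finrank_eq_zero.1 hrange)
  have hS : ∑ n : N, ρ (n : G) = 0 :=
    (smul_eq_zero.1 (hP ▸ hP0)).resolve_left (inv_ne_zero hc)
  have hconst : ∀ n : N, ρ.character (g * n) = ρ.character g := fun n => by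
    obtain ⟨x, hx⟩ := hN g hg n n.2
    rw [← hx, Representation.char_conj]
  have h0 : ∑ n : N, ρ.character (g * n) = 0 := by
    show ∑ n : N, LinearMap.trace ℂ _ (ρ (g * n)) = 0
    rw [← map_sum]
    simp only [map_mul, ← Finset.mul_sum, hS, mul_zero, map_zero]
  rw [Finset.sum_congr rfl fun n _ => hconst n, Finset.sum_const, Finset.card_univ, nsmul_eq_mul] at h0
  exact (mul_eq_zero.1 h0).resolve_left hc

/-- If a non-trivial irreducible character of the kernel extends to `A`, then the square of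
`[A : N]` divides `[G : N]`. -/
theorem relIndex_sq_dvd (hN : Pair N) {A : Subgroup G} (hNA : N ≤ A) {φ : N → ℂ}
    (hφ : IsIrrCharacter N φ) (hne : φ ≠ fun _ => 1) {η : A → ℂ} (hη : IsCharacter A η)
    (hres : ∀ n : N, η ⟨(n : G), hNA n.2⟩ = φ n) : (N.relIndex A) ^ 2 ∣ N.index := by
  classical
  letI : Fintype G := Fintype.ofFinite _
  letI : Fintype N := Fintype.ofFinite _
  letI : Fintype A := Fintype.ofFinite _
  -- an irreducible character above `φ`
  obtain ⟨χ, hχ⟩ : ∃ χ : IrrCharacter G, classInner (fun n : N => (χ : G → ℂ) n) φ ≠ 0 := by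
    by_contra! h
    have he := congrFun (classFunction_expansion (isClassFunction_indFun N φ)) 1
    rw [Finset.sum_apply, Finset.sum_eq_zero fun ψ _ => by
      rw [Pi.smul_apply, ← classInner_conj_symm, frobenius_reciprocity' N φ (isClassFunction_irr ψ),
        h ψ, map_zero, zero_smul], indFun_one] at he
    rcases mul_eq_zero.1 he with h0 | h0
    · exact Subgroup.index_ne_zero_of_finite (Nat.cast_eq_zero.1 h0)
    · exact irr_degree_ne_zero hφ h0
  have hχc := isCharacter_of_isIrr χ.2
  have hcl := isClassFunction_of_isCharacter hχc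
  obtain ⟨c, hc⟩ := exists_nat_classInner (isCharacter_restrict N hχc) (isCharacter_of_isIrr hφ)
  have htriv : classInner (fun n : N => (χ : G → ℂ) n) (fun _ => (1 : ℂ)) = 0 := by
    by_contra h
    have h2 := clifford_invariant N χ.2 (isIrrCharacter_one (G := N))
      (fun g => funext fun n => rfl) h
    apply hχ
    rw [h2, classInner_smul_left, classInner_irr_ne (isIrrCharacter_one (G := N)) hφ hne.symm,
      mul_zero]
  have hv : ∀ g : G, g ∉ N → (χ : G → ℂ) g = 0 := fun g hg => vanish hN hχc htriv hg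
  -- the norm of the restriction
  have hnorm : classInner (fun n : N => (χ : G → ℂ) n) (fun n : N => (χ : G → ℂ) n) =
      (N.index : ℂ) := by
    have h1 := classInner_irr_self χ.2
    simp only [classInner] at h1 ⊢
    have e : ∑ g : G, (χ : G → ℂ) g * conj ((χ : G → ℂ) g) =
        ∑ n : N, (χ : G → ℂ) n * conj ((χ : G → ℂ) n) := by
      rw [← Finset.sum_filter_add_sum_filter_not Finset.univ (fun g => g ∈ N),
        Finset.sum_eq_zero (s := Finset.univ.filter fun g => g ∉ N) (fun g hg => by
          rw [hv g (Finset.mem_filter.1 hg).2, zero_mul]), add_zero]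
      exact Finset.sum_subtype _ (fun g => by simp) _
    rw [e, inv_mul_eq_one₀ (Nat.cast_ne_zero.2 Nat.card_pos.ne'), ← N.card_mul_index,
      Nat.cast_mul] at h1
    rw [← h1, inv_mul_cancel_left₀ (Nat.cast_ne_zero.2 Nat.card_pos.ne')]
  have hval : ∀ ψ ∈ orbit N φ, classInner ψ (fun n : N => (χ : G → ℂ) n) = (c : ℂ) := by
    intro ψ hψ
    obtain ⟨g, rfl⟩ := (mem_orbit N).1 hψ
    conv_lhs => rw [← conjBy_restrict N hcl g, classInner_conjBy]
    rw [← classInner_conj_symm, hc, Complex.conj_natCast]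
  have hdvd : c * c ∣ N.index := by
    rw [clifford N χ.2 hφ hχ, classInner_smul_left, classInner_sum_left] at hnorm
    rw [← clifford N χ.2 hφ hχ, Finset.sum_congr rfl hval, Finset.sum_const, nsmul_eq_mul, hc,
      ← Nat.cast_mul, ← Nat.cast_mul] at hnorm
    refine ⟨(orbit N φ).card, ?_⟩
    rw [← Nat.cast_injective hnorm]
    ring
  -- the restriction to `A`
  obtain ⟨a, ha⟩ := exists_nat_classInner (isCharacter_restrict A hχc) hη
  have hsum : ∑ u : A, (χ : G → ℂ) u * conj (η u) = ∑ n : N, (χ : G → ℂ) n * conj (φ n) := by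
    rw [← Finset.sum_filter_add_sum_filter_not Finset.univ (fun u : A => (u : G) ∈ N),
      Finset.sum_eq_zero (s := Finset.univ.filter fun u : A => ¬ (u : G) ∈ N) (fun u hu => by
        rw [hv _ (Finset.mem_filter.1 hu).2, zero_mul]), add_zero]
    refine Finset.sum_bij' (fun u hu => (⟨(u : G), (Finset.mem_filter.1 hu).2⟩ : N))
      (fun n _ => (⟨(n : G), hNA n.2⟩ : A)) (by simp) (fun n _ => by simp) (fun u _ => rfl)
      (fun n _ => rfl) fun u hu => ?_
    rw [← hres]
  simp only [classInner, hsum] at ha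
  have hc' : ∑ n : N, (χ : G → ℂ) n * conj (φ n) = (Nat.card N : ℂ) * c := by
    rw [← hc, classInner, mul_inv_cancel_left₀ (Nat.cast_ne_zero.2 Nat.card_pos.ne')]
  rw [hc', inv_mul_eq_iff_eq_mul₀ (Nat.cast_ne_zero.2 Nat.card_pos.ne'), ← Nat.cast_mul,
    ← Nat.cast_mul, Nat.cast_inj] at ha
  have hcard : Nat.card A = Nat.card N * N.relIndex A := by
    have := (N.subgroupOf A).card_mul_index
    rw [Nat.card_congr (Subgroup.subgroupOfEquivOfLe hNA).toEquiv] at this
    exact this.symm
  rw [hcard, mul_assoc] at ha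
  rw [Nat.eq_of_mul_eq_mul_left Nat.card_pos ha] at hdvd
  exact (dvd_mul_of_dvd_left (dvd_refl _) (a * a)).trans ((dvd_of_eq (by ring)).trans hdvd)

end CfsgLib.Camina
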