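import Cfsg.Agent.Lib.Camina.Basic

/-!
Camina pairs: normal `p`-complements in the kernel.
-/

set_option autoImplicit false
set_option linter.unusedSectionVars false
set_option linter.style.haveILetI false

namespace CfsgLib.Camina

open Cfsg CfsgLib.Char
open scoped CfsgLib.Char

variable {G : Type*} [Group G] [Finite G] {N : Subgroup G} [N.Normal]

theorem not_dvd_index_sylow_sup {p : ℕ} [Fact p.Prime] (P : Sylow p G) :
    ¬ p ∣ ((P : Subgroup G) ⊔ N).index :=
  fun h => P.not_dvd_index (h.trans (Subgroup.index_dvd_of_le le_sup_left))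

/-- A non-trivial irreducible character of `N` does not extend to a subgroup containing a Sylow
subgroup for a prime dividing the index. -/
theorem not_extends {p : ℕ} [hp : Fact p.Prime] (hN : Pair N) (hpi : p ∣ N.index) {H : Subgroup G}
    (hNH : N ≤ H) (hH : ¬ p ∣ H.index) {φ : N → ℂ} (hφ : IsIrrCharacter N φ)
    (hne : φ ≠ fun _ => 1) {η : H → ℂ} (hη : IsCharacter H η) :
    ¬ ∀ n : N, η ⟨(n : G), hNH n.2⟩ = φ n := by
  intro hres
  have h1 := relIndex_sq_dvd hN hNH hφ hne hη hres
  rw [← Subgroup.relIndex_mul_index hNH, sq] at h1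
  have h2 : N.relIndex H ∣ H.index :=
    Nat.dvd_of_mul_dvd_mul_left (Nat.pos_of_ne_zero fun h =>
      Subgroup.index_ne_zero_of_finite (H := N) (by rw [← Subgroup.relIndex_mul_index hNH, h, zero_mul])) h1
  refine hH (dvd_trans ?_ h2)
  rw [← Subgroup.relIndex_mul_index hNH] at hpi
  exact (hp.out.dvd_mul.1 hpi).resolve_right hH

/-- The subgroup generated by the elements of `N` of order prime to `p`. -/
def resid (p : ℕ) (N : Subgroup G) : Subgroup G :=
  Subgroup.closure {g : G | g ∈ N ∧ (orderOf g).Coprime p}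

theorem resid_le (p : ℕ) : resid p N ≤ N :=
  (Subgroup.closure_le _).2 fun _ h => h.1

instance resid_normal (p : ℕ) : (resid p N).Normal := by
  refine ⟨fun n hn g => ?_⟩
  induction hn using Subgroup.closure_induction with
  | mem y hy =>
    refine Subgroup.subset_closure ⟨‹N.Normal›.conj_mem y hy.1 g, ?_⟩
    rw [← MulAut.conj_apply, MulEquiv.orderOf_eq]
    exact hy.2
  | one => simp
  | mul a b _ _ ha hb =>
    rw [show g * (a * b) * g⁻¹ = g * a * g⁻¹ * (g * b * g⁻¹) by group]
    exact Subgroup.mul_mem _ ha hb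
  | inv a _ ha =>
    rw [show g * a⁻¹ * g⁻¹ = (g * a * g⁻¹)⁻¹ by group]
    exact Subgroup.inv_mem _ ha

/-- `N` has a normal `p`-complement for every prime `p` dividing the index. -/
theorem complement {p : ℕ} [hp : Fact p.Prime] (hN : Pair N) (hpi : p ∣ N.index) :
    ¬ p ∣ Nat.card (resid p N) ∧ ∃ k, (resid p N).relIndex N = p ^ k := by
  classical
  obtain ⟨P⟩ : Nonempty (Sylow p G) := inferInstance
  set H : Subgroup G := (P : Subgroup G) ⊔ N with hHdef
  have hNH : N ≤ H := le_sup_right
  have hPH : (P : Subgroup G) ≤ H := le_sup_left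
  have hH := not_dvd_index_sylow_sup (N := N) P
  haveI : (N.subgroupOf H).Normal := Subgroup.Normal.subgroupOf inferInstance _
  haveI : (pResidual p H).Normal := Transfer.pResidual_normal p H
  letI : Fintype H := Fintype.ofFinite _
  letI : Fintype (N.subgroupOf H) := Fintype.ofFinite _
  obtain ⟨k, hk⟩ : ∃ k, (N.subgroupOf H).index = p ^ k := by
    have hd : (N.subgroupOf H).index ∣ Nat.card P := by
      show N.relIndex ((P : Subgroup G) ⊔ N) ∣ _
      rw [Subgroup.relIndex_sup_right]
      exact Subgroup.index_dvd_card _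
    obtain ⟨m, hm⟩ := IsPGroup.iff_card.1 P.2
    obtain ⟨k, -, hk⟩ := (Nat.dvd_prime_pow hp.out).1 (hm ▸ hd)
    exact ⟨k, hk⟩
  have hmem : ∀ x : H, (orderOf x).Coprime p → (x : G) ∈ N := fun x hx => by
    have h1 : orderOf (QuotientGroup.mk' (N.subgroupOf H) x) ∣ (orderOf x).gcd (p ^ k) :=
      Nat.dvd_gcd (orderOf_map_dvd _ x) (hk ▸ Subgroup.index_eq_card (N.subgroupOf H) ▸
        orderOf_dvd_natCard _)
    rw [(hx.pow_right k).gcd_eq_one, Nat.dvd_one, orderOf_eq_one_iff, QuotientGroup.mk'_apply,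
      QuotientGroup.eq_one_iff] at h1
    exact h1
  have hle : pResidual p H ≤ N.subgroupOf H :=
    (Subgroup.closure_le _).2 fun x hx => hmem x hx
  have hmap : (pResidual p H).map H.subtype = resid p N := by
    rw [pResidual, resid, MonoidHom.map_closure]
    congr 1
    ext g
    constructor
    · rintro ⟨x, hx, rfl⟩
      exact ⟨hmem x hx, by rw [H.subtype_apply, Subgroup.orderOf_coe]; exact hx⟩
    · rintro ⟨hg, hc⟩
      refine ⟨⟨g, hNH hg⟩, ?_, rfl⟩
      show (orderOf (⟨g, hNH hg⟩ : H)).Coprime p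
      rwa [← Subgroup.orderOf_coe]
  refine ⟨fun hdvd => ?_, ?_⟩
  · rw [← hmap, Subgroup.card_map_of_injective H.subtype_injective] at hdvd
    obtain ⟨θ, hθ1, hθinv, hθp⟩ : ∃ θ : IrrCharacter (pResidual p H),
        (θ : pResidual p H → ℂ) ≠ (fun _ => 1) ∧
          (∀ g, conjBy (pResidual p H) (θ : pResidual p H → ℂ) g = θ) ∧
          ¬ p ∣ charDegree (θ : pResidual p H → ℂ) := by
      by_contra! hno
      have h := PResidual.card_congr (p := p) (G := H)
      rw [(ZMod.natCast_eq_zero_iff _ _).2 hdvd,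
        Finset.sum_eq_single (⟨fun _ => 1, isIrrCharacter_one⟩ : IrrCharacter (pResidual p H))] at h
      · have hd1 : charDegree (fun _ : pResidual p H => (1 : ℂ)) = 1 := by simp [charDegree]
        rw [if_pos ⟨fun g => rfl, by rw [hd1]; exact hp.out.not_dvd_one⟩, hd1] at h
        simp at h
      · intro θ _ hθ
        rw [if_neg fun h' => h'.2 (hno θ (fun e => hθ (Subtype.ext e)) h'.1)]
      · simp
    obtain ⟨d, -, hd⟩ := exists_nat_degree_irr θ.2
    have hdd : charDegree (θ : pResidual p H → ℂ) = d := by simp [charDegree, hd]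
    rw [hdd] at hθp
    obtain ⟨χ, hχ, hext⟩ := PResidual.exists_extension θ.2 hθinv hd hθp
    have hχ1 : χ 1 = (d : ℕ) := by
      rw [show (1 : H) = ((1 : pResidual p H) : H) from rfl, hext, hd]
    have hirr := (PResidual.restrict_irr (N.subgroupOf H) hk hχ hχ1 hθp).1
    let e := Subgroup.subgroupOfEquivOfLe hNH
    have hφ : IsIrrCharacter N (fun n : N => χ ⟨(n : G), hNH n.2⟩) :=
      (isIrrCharacter_comp_equiv e.symm).mpr hirr
    refine not_extends hN hpi hNH hH hφ (fun h => hθ1 (funext fun x => ?_))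
      (isCharacter_of_isIrr hχ) (fun n => rfl)
    rw [← hext]
    exact congrFun h ⟨((x : H) : G), hle x.2⟩
  · obtain ⟨j, hj⟩ := PResidual.index_eq_pow (G := H) (p := p)
    have h1 : (resid p N).relIndex H = p ^ j := by
      rw [← hj, ← hmap, Subgroup.relIndex, Subgroup.subgroupOf,
        Subgroup.comap_map_eq_self_of_injective H.subtype_injective]
    have h2 : (resid p N).relIndex N ∣ p ^ j :=
      h1 ▸ ⟨_, (Subgroup.relIndex_mul_relIndex _ _ _ (resid_le p) hNH).symm⟩
    obtain ⟨i, -, hi⟩ := (Nat.dvd_prime_pow hp.out).1 h2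
    exact ⟨i, hi⟩

end CfsgLib.Camina
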