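import Cfsg.Agent.Lib.Camina.Complement
import Cfsg.Agent.Lib.FrobCompl.Noncyclic
import Cfsg.Agent.Lib.ZStar.Recognize
import Cfsg.Agent.Lib.Splitting.Nilpotent
import Cfsg.Agent.S4155

/-!
Camina pairs with nilpotent kernel, and the trichotomy.
-/

set_option autoImplicit false
set_option linter.unusedSectionVars false
set_option linter.style.haveILetI false

namespace CfsgLib.Camina

open Cfsg CfsgLib.Char
open scoped CfsgLib.Char

variable {G : Type*} [Group G] [Finite G] {N : Subgroup G} [N.Normal]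

theorem eq_one_of_commute (hN : Pair N) {g n : G} (hg : g ∉ N) (hn : n ∈ N) (hc : Commute g n)
    (hcop : (orderOf g).Coprime (orderOf n)) : n = 1 := by
  obtain ⟨x, hx⟩ := hN g hg n hn
  have h : orderOf (g * n) = orderOf g := by
    rw [← hx, ← MulAut.conj_apply, MulEquiv.orderOf_eq]
  rw [hc.orderOf_mul_eq_mul_orderOf_of_coprime hcop] at h
  exact orderOf_eq_one_iff.mp ((Nat.mul_eq_left (orderOf_pos g).ne').mp h)

/-- In a cyclic or quaternion `p`-group some element has order whose square exceeds the order of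
the group. -/
theorem exists_large_order {Q : Type*} [Group Q] [Finite Q] {p : ℕ} [hp : Fact p.Prime]
    (h : IsCyclic Q ∨ ∃ n : ℕ, Nonempty (Q ≃* QuaternionGroup (2 ^ n))) (h1 : 1 < Nat.card Q) :
    ∃ a : Q, Nat.card Q < orderOf a ^ 2 := by
  rcases h with h | ⟨n, ⟨e⟩⟩
  · obtain ⟨a, ha⟩ := h.exists_generator
    refine ⟨a, ?_⟩
    rw [orderOf_eq_card_of_forall_mem_zpowers ha]
    exact lt_self_pow₀ h1 (by norm_num)
  · rw [Nat.card_congr e.toEquiv, Nat.card_eq_fintype_card, QuaternionGroup.card]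
    rcases n with _ | n
    · refine ⟨e.symm (QuaternionGroup.xa 0), ?_⟩
      rw [MulEquiv.orderOf_eq, QuaternionGroup.orderOf_xa]
      norm_num
    · refine ⟨e.symm (QuaternionGroup.a 1), ?_⟩
      rw [MulEquiv.orderOf_eq, QuaternionGroup.orderOf_a_one]
      have : 2 ≤ 2 ^ (n + 1) := Nat.le_self_pow (by omega) 2
      nlinarith

theorem p_dvd_commutator_index {p : ℕ} [hp : Fact p.Prime] (M : Subgroup N) [M.Normal] {k : ℕ}
    (hM : M.index = p ^ k) (hk : k ≠ 0) : p ∣ (commutator N).index := by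
  set X := N ⧸ M
  have hX : IsPGroup p X := IsPGroup.of_card (by rw [← hM, Subgroup.index_eq_card])
  haveI : Nontrivial X := by
    rw [← Finite.one_lt_card_iff_nontrivial, ← Subgroup.index_eq_card, hM]
    exact Nat.one_lt_pow hk hp.out.one_lt
  haveI := hX.isNilpotent
  have hlt : commutator X ≠ ⊤ := (Group.IsSolvable.commutator_lt_top_of_nontrivial (G := X)).ne
  have h1 : (commutator X).index ≠ 1 := fun h => hlt (Subgroup.index_eq_one.1 h)
  obtain ⟨j, hj⟩ := (IsPGroup.iff_card.1 hX)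
  obtain ⟨i, -, hi⟩ := (Nat.dvd_prime_pow hp.out).1 (hj ▸ Subgroup.index_dvd_card (commutator X))
  have hle : commutator N ≤ (commutator X).comap (QuotientGroup.mk' M) := by
    rw [← Subgroup.map_le_iff_le_comap]
    exact Subgroup.map_commutator _ _ _ |>.le.trans
      (Subgroup.commutator_mono le_top le_top)
  refine dvd_trans ?_ (Subgroup.index_dvd_of_le hle)
  rw [Subgroup.index_comap_of_surjective _ (QuotientGroup.mk'_surjective M), hi]
  exact dvd_pow_self p fun h => h1 (by rw [hi, h, pow_zero])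

/-- A non-trivial linear character of `N` fixed by a `p`-subgroup. -/
theorem exists_invariant_linear {p : ℕ} [hp : Fact p.Prime] {P : Subgroup G} (hP : IsPGroup p P)
    (hd : p ∣ (commutator N).index) :
    ∃ f : N →* ℂˣ, f ≠ 1 ∧ ∀ y ∈ P, ∀ n : N, f (MulAut.conjNormal y n) = f n := by
  let A := Abelianization N
  haveI : Finite A := Finite.of_surjective _ QuotientGroup.mk_surjective
  have hcard : Nat.card (N →* ℂˣ) = Nat.card A := by
    rw [Nat.card_congr Abelianization.lift]
    letI : CommGroup A := inferInstanceAs (CommGroup (Abelianization N))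
    exact CommGroup.card_monoidHom_of_hasEnoughRootsOfUnity A ℂ
  haveI : Finite (N →* ℂˣ) := Nat.finite_of_card_ne_zero (hcard ▸ Nat.card_pos.ne')
  letI : MulAction P (N →* ℂˣ) :=
    { smul := fun y f => f.comp (MulAut.conjNormal (y : G)⁻¹).toMonoidHom
      one_smul := fun f => MonoidHom.ext fun n => by
        show f (MulAut.conjNormal ((1 : P) : G)⁻¹ n) = f n
        simp
      mul_smul := fun y z f => MonoidHom.ext fun n => by
        show f (MulAut.conjNormal ((y * z : P) : G)⁻¹ n) =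
          f (MulAut.conjNormal (z : G)⁻¹ (MulAut.conjNormal (y : G)⁻¹ n))
        rw [Subgroup.coe_mul, mul_inv_rev, map_mul, MulAut.mul_apply] }
  have hd' : p ∣ Nat.card (N →* ℂˣ) := by
    rw [hcard]; rwa [Subgroup.index_eq_card] at hd
  obtain ⟨f, hf, hf1⟩ := hP.exists_fixed_point_of_prime_dvd_card_of_fixed_point (N →* ℂˣ) hd'
    (a := (1 : N →* ℂˣ)) (fun y => rfl)
  refine ⟨f, fun h => hf1 h.symm, fun y hy n => ?_⟩
  have h := DFunLike.congr_fun (hf (⟨y, hy⟩ : P)⁻¹) n
  change f (MulAut.conjNormal ((((⟨y, hy⟩ : P)⁻¹ : P) : G))⁻¹ n) = f n at h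
  simpa using h

/-- The nilpotent case. -/
theorem nilpotent_false {p : ℕ} [hp : Fact p.Prime] (hN : Pair N) (hnil : Group.IsNilpotent N)
    (hpi : p ∣ N.index) (hpN : p ∣ Nat.card N) {r : ℕ} [hr : Fact r.Prime] (hrp : r ≠ p)
    (hrN : r ∣ Nat.card N) : False := by
  classical
  obtain ⟨P⟩ : Nonempty (Sylow p G) := inferInstance
  -- the Sylow `p`-subgroup of `N`
  obtain ⟨S⟩ : Nonempty (Sylow p N) := inferInstance
  haveI := Splitting.sylow_normal_of_isNilpotent hnil S
  haveI := Sylow.characteristic_of_normal S inferInstance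
  set P0 : Subgroup G := (S : Subgroup N).map N.subtype with hP0
  haveI : P0.Normal := ConjAct.normal_of_characteristic_of_normal
  have hP0N : P0 ≤ N := Subgroup.map_subtype_le _
  have hP0p : IsPGroup p P0 := S.2.map _
  have hP0P : P0 ≤ P := le_sup_left.trans_eq (P.3 (hP0p.to_sup_of_normal_left P.2) le_sup_right)
  have hPN : ∀ g, g ∈ (P : Subgroup G) → g ∈ N → g ∈ P0 := fun g hgP hgN => by
    refine ⟨⟨g, hgN⟩, ?_, rfl⟩
    have hle : (P : Subgroup G).subgroupOf N ≤ S := by
      exact le_sup_left.trans_eq (S.3 ((P.2.comap_subtype (K := N)).to_sup_of_normal_right S.2) le_sup_right)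
    exact hle hgP
  set f := QuotientGroup.mk' P0
  -- a central element of order `r`
  obtain ⟨v, hvc, hvo⟩ := Cfsg.Agent.S4155.exists_central_prime_order N hnil hrN
  let V : Subgroup G :=
    { carrier := {g | ∃ hg : g ∈ N, (⟨g, hg⟩ : N) ∈ Subgroup.center N ∧ g ^ r = 1}
      one_mem' := ⟨N.one_mem, (Subgroup.center N).one_mem, one_pow r⟩
      mul_mem' := by
        rintro a b ⟨ha, hac, har⟩ ⟨hb, hbc, hbr⟩
        refine ⟨N.mul_mem ha hb, (Subgroup.center N).mul_mem hac hbc, ?_⟩
        have : Commute a b := congrArg Subtype.val (Subgroup.mem_center_iff.1 hbc ⟨a, ha⟩)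
        rw [this.mul_pow, har, hbr, one_mul]
      inv_mem' := by
        rintro a ⟨ha, hac, har⟩
        exact ⟨N.inv_mem ha, (Subgroup.center N).inv_mem hac, by rw [inv_pow, har, inv_one]⟩ }
  haveI : V.Normal := by
    refine ⟨?_⟩
    rintro a ⟨ha, hac, har⟩ g
    refine ⟨‹N.Normal›.conj_mem a ha g, Subgroup.mem_center_iff.2 fun n => Subtype.ext ?_, ?_⟩
    · have h := congrArg Subtype.val (Subgroup.mem_center_iff.1 hac
        ⟨g⁻¹ * (n : G) * g, by simpa using ‹N.Normal›.conj_mem (n : G) n.2 g⁻¹⟩)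
      change g⁻¹ * (n : G) * g * a = a * (g⁻¹ * (n : G) * g) at h
      show (n : G) * (g * a * g⁻¹) = g * a * g⁻¹ * (n : G)
      calc (n : G) * (g * a * g⁻¹) = g * (g⁻¹ * (n : G) * g * a) * g⁻¹ := by group
        _ = g * (a * (g⁻¹ * (n : G) * g)) * g⁻¹ := by rw [h]
        _ = g * a * g⁻¹ * (n : G) := by group
    · rw [conj_pow, har, mul_one, mul_inv_cancel]
  set A := (P : Subgroup G).map f
  set W := V.map f
  have hWc : IsMulCommutative W := by
    refine ⟨⟨?_⟩⟩
    rintro ⟨_, a, ⟨ha, hac, har⟩, rfl⟩ ⟨_, b, ⟨hb, hbc, hbr⟩, rfl⟩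
    refine Subtype.ext ?_
    show f a * f b = f b * f a
    rw [← map_mul, ← map_mul]
    exact congrArg f (congrArg Subtype.val (Subgroup.mem_center_iff.1 hbc ⟨a, ha⟩))
  have hdisj : ∀ a ∈ V, a ∈ P0 → a = 1 := fun a ha ha0 => by
    obtain ⟨-, -, har⟩ := ha
    obtain ⟨i, hi⟩ := hP0p ⟨a, ha0⟩
    have hi' : a ^ p ^ i = 1 := congrArg Subtype.val hi
    have h := pow_gcd_eq_one.2 ⟨har, hi'⟩
    rwa [((Nat.coprime_primes hr.out hp.out).2 hrp |>.pow_right i).gcd_eq_one, pow_one] at h
  have hW : W ≠ ⊥ := fun h => by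
    have hv : (v : G) ∈ V := ⟨v.2, hvc, by rw [← hvo, ← Subgroup.orderOf_coe, pow_orderOf_eq_one]⟩
    have h1 : f v = 1 := by
      rw [← Subgroup.mem_bot, ← h]
      exact ⟨_, hv, rfl⟩
    have h2 := hdisj _ hv ((QuotientGroup.eq_one_iff _).1 h1)
    rw [← Subgroup.orderOf_coe, h2, orderOf_one] at hvo
    exact hr.out.ne_one hvo.symm
  haveI : W.Normal := Subgroup.Normal.map inferInstance f (QuotientGroup.mk'_surjective P0)
  have hfpf : ∀ e ∈ A, e ≠ 1 → W ⊓ Subgroup.centralizer {e} = ⊥ := by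
    rintro _ ⟨y, hy, rfl⟩ hne
    rw [eq_bot_iff]
    rintro _ ⟨⟨a, ha, rfl⟩, hc⟩
    have hyN : y ∉ N := fun h => hne ((QuotientGroup.eq_one_iff _).2 (hPN y hy h))
    have hc' := Subgroup.mem_centralizer_singleton_iff.1 hc
    have hcomm : Commute y a := by
      have h1 : (y * a * y⁻¹) * a⁻¹ ∈ P0 := by
        rw [← QuotientGroup.eq_one_iff]
        show f ((y * a * y⁻¹) * a⁻¹) = 1
        rw [map_mul, map_mul, map_mul, map_inv, map_inv, ← hc']
        group
      have h2 := hdisj _ (V.mul_mem (‹V.Normal›.conj_mem a ha y) (V.inv_mem ha)) h1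
      show y * a = a * y
      rwa [mul_inv_eq_one, mul_inv_eq_iff_eq_mul] at h2
    obtain ⟨haN, -, har⟩ := ha
    have h1 : a = 1 := eq_one_of_commute hN hyN haN hcomm (by
      obtain ⟨i, hi⟩ := P.2 ⟨y, hy⟩
      exact (((Nat.coprime_primes hp.out hr.out).2 hrp.symm).pow_left i).coprime_dvd_left
        (orderOf_dvd_of_pow_eq_one (congrArg Subtype.val hi)) |>.coprime_dvd_right
        (orderOf_dvd_of_pow_eq_one har))
    rw [h1, map_one]
    exact Subgroup.one_mem _
  have hAp : IsPGroup p A := P.2.map f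
  have hst := FrobCompl.sylow_structure (p := p) hW
    (by rw [Subgroup.normalizer_eq_top]; exact le_top) hfpf hAp le_rfl
  have hA : IsCyclic A ∨ ∃ n : ℕ, Nonempty (A ≃* QuaternionGroup (2 ^ n)) := by
    by_cases h2 : p = 2
    · subst h2
      exact ZStar.cyclic_or_quaternion hAp (hst.2 rfl)
    · exact Or.inl (hst.1 h2)
  -- the index of `N`
  set H : Subgroup G := (P : Subgroup G) ⊔ N
  have hH : ¬ p ∣ H.index := not_dvd_index_sylow_sup P
  have hrel : N.relIndex H = Nat.card A := by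
    rw [show N.relIndex H = N.relIndex (P : Subgroup G) from Subgroup.relIndex_sup_right _ _,
      ← Subgroup.relIndex_ker (P : Subgroup G) f, QuotientGroup.ker_mk',
      ← Subgroup.inf_relIndex_right]
    congr 1
    exact le_antisymm (fun g hg => hPN g hg.2 hg.1) (le_inf hP0N hP0P)
  have hidx : N.index = Nat.card A * H.index := by
    rw [← hrel, Subgroup.relIndex_mul_index le_sup_right]
  obtain ⟨m, hm⟩ := IsPGroup.iff_card.1 hAp
  have hA1 : 1 < Nat.card A := by
    rcases Nat.eq_zero_or_pos m with rfl | h0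
    · rw [hidx, hm, pow_zero, one_mul] at hpi
      exact absurd hpi hH
    · rw [hm]; exact Nat.one_lt_pow h0.ne' hp.out.one_lt
  obtain ⟨a, ha⟩ := exists_large_order (p := p) hA hA1
  obtain ⟨y, hy, hya⟩ := a.2
  have hord : orderOf (QuotientGroup.mk' N y) = orderOf a := by
    rw [← Subgroup.orderOf_coe, ← hya]
    refine orderOf_eq_orderOf_iff.2 fun i => ?_
    rw [← map_pow, ← map_pow, QuotientGroup.mk'_apply, QuotientGroup.eq_one_iff]
    show y ^ i ∈ N ↔ f (y ^ i) = 1
    rw [show f (y ^ i) = ((y ^ i : G) : G ⧸ P0) from rfl, QuotientGroup.eq_one_iff]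
    exact ⟨fun h => hPN _ ((P : Subgroup G).pow_mem hy i) h, fun h => hP0N h⟩
  -- a linear character
  obtain ⟨l, hl⟩ := (complement hN hpi).2
  have hl0 : l ≠ 0 := fun h => by
    rw [h, pow_zero, Subgroup.relIndex_eq_one] at hl
    exact (complement hN hpi).1 (hpN.trans (Subgroup.card_dvd_of_le hl))
  haveI : ((resid p N).subgroupOf N).Normal := Subgroup.Normal.subgroupOf inferInstance _
  obtain ⟨lam, hlam, hinv⟩ := exists_invariant_linear (N := N) P.2
    (p_dvd_commutator_index ((resid p N).subgroupOf N) hl hl0)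
  let B : Subgroup G := Subgroup.zpowers y ⊔ N
  have hNB : N ≤ B := le_sup_right
  haveI : (N.subgroupOf B).Normal := Subgroup.Normal.subgroupOf inferInstance _
  letI : Fintype B := Fintype.ofFinite _
  let e := Subgroup.subgroupOfEquivOfLe hNB
  let φ : N → ℂ := fun n => (lam n : ℂ)
  have hφ : IsIrrCharacter N φ := isIrrCharacter_monoidHom lam
  have hφ' : IsIrrCharacter (N.subgroupOf B) (fun x => φ (e x)) := (isIrrCharacter_comp_equiv e).mpr hφ
  have hy' : y ∈ inertia N φ := by
    show conjBy N φ y = φ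
    funext n
    exact congrArg (fun u : ℂˣ => (u : ℂ)) (hinv y hy n)
  have hB : B ≤ inertia N φ :=
    sup_le (Subgroup.zpowers_le.2 hy') (le_inertia N (isClassFunction_of_isCharacter (isCharacter_of_isIrr hφ)))
  have hinv' : ∀ g : B, conjBy (N.subgroupOf B) (fun x => φ (e x)) g = fun x => φ (e x) :=
    fun g => funext fun x => (mem_inertia_iff N).mp (hB g.2) (e x)
  have hcyc : IsCyclic (B ⧸ N.subgroupOf B) := by
    refine ⟨⟨QuotientGroup.mk ⟨y, Subgroup.mem_sup_left (Subgroup.mem_zpowers y)⟩, fun q => ?_⟩⟩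
    induction q using QuotientGroup.induction_on with
    | _ u =>
      obtain ⟨_, ⟨i, rfl⟩, n, hn, hu⟩ := Subgroup.mem_sup_of_normal_right.1 u.2
      refine ⟨i, ?_⟩
      show _ ^ i = _
      rw [← QuotientGroup.mk_zpow, QuotientGroup.eq]
      show (((⟨y, _⟩ : B) ^ i)⁻¹ * u : B).1 ∈ N
      rw [Subgroup.coe_mul, Subgroup.coe_inv, Subgroup.coe_zpow, ← hu]
      simpa using hn
  obtain ⟨χ, hχ, hext⟩ := extends_of_cyclic (N.subgroupOf B) hφ' hinv' hcyc
  have hdiv := relIndex_sq_dvd hN hNB hφ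
    (fun h => hlam (MonoidHom.ext fun n => Units.ext (congrFun h n))) (isCharacter_of_isIrr hχ)
    (fun n => by rw [← e.apply_symm_apply n]; exact hext (e.symm n))
  have hBrel : N.relIndex B = orderOf a := by
    rw [show N.relIndex B = N.relIndex (Subgroup.zpowers y) from Subgroup.relIndex_sup_right _ _]
    have h := Subgroup.relIndex_ker (Subgroup.zpowers y) (QuotientGroup.mk' N)
    rw [QuotientGroup.ker_mk', MonoidHom.map_zpowers, Nat.card_zpowers, hord] at h
    exact h
  rw [hBrel, hidx] at hdiv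
  obtain ⟨j, -, hj⟩ := (Nat.dvd_prime_pow hp.out).1 (hm ▸ orderOf_dvd_natCard a)
  rw [hm] at ha hdiv
  rw [hj, ← pow_mul] at ha hdiv
  have hlt := (Nat.pow_lt_pow_iff_right hp.out.one_lt).1 ha
  have hle : j * 2 ≤ m := (Nat.pow_dvd_pow_iff_le_right hp.out.one_lt).1
    ((((hp.out.coprime_iff_not_dvd).2 hH).pow_left _).dvd_of_dvd_mul_right hdiv)
  omega

theorem pair_map (hN : Pair N) {K : Subgroup G} [K.Normal] (hK : K ≤ N) :
    Pair (N.map (QuotientGroup.mk' K)) := by
  intro g hg n hn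
  obtain ⟨g, rfl⟩ := QuotientGroup.mk'_surjective K g
  obtain ⟨n, hn, rfl⟩ := hn
  obtain ⟨x, hx⟩ := hN g (fun h => hg ⟨g, h, rfl⟩) n hn
  exact ⟨QuotientGroup.mk' K x, by rw [← map_inv, ← map_mul, ← map_mul, ← map_mul, hx]⟩

theorem trichotomy (hN : Pair N) (hN1 : N ≠ ⊥) (hN2 : N ≠ ⊤) :
    N.index.Coprime (Nat.card N) ∨ IsPrimePow (Nat.card N) ∨ IsPrimePow N.index := by
  classical
  by_contra! hno
  obtain ⟨h1, h2, h3⟩ := hno
  obtain ⟨p, hp, hpi, hpN⟩ := Nat.Prime.not_coprime_iff_dvd.1 h1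
  haveI := Fact.mk hp
  have hother : ∀ n : ℕ, n ≠ 0 → p ∣ n → ¬ IsPrimePow n → ∃ q, q.Prime ∧ q ≠ p ∧ q ∣ n := by
    intro n hn hpn hnp
    by_contra! hall
    exact hnp (isPrimePow_iff_unique_prime_dvd.mpr ⟨p, ⟨hp, hpn⟩, fun t ht => by
      by_contra h; exact hall t ht.1 h ht.2⟩)
  obtain ⟨q, hq, hqp, hqi⟩ := hother N.index Subgroup.index_ne_zero_of_finite hpi h3
  obtain ⟨r, hr, hrp, hrN⟩ := hother (Nat.card N) Nat.card_pos.ne' hpN h2
  haveI := Fact.mk hq
  haveI := Fact.mk hr
  by_cases hqN : q ∣ Nat.card N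
  · -- the quotient by the intersection of the two complements
    set Kp := resid p N
    set Kq := resid q N
    set K := Kp ⊓ Kq
    have hK : K ≤ N := inf_le_left.trans (resid_le p)
    haveI : K.Normal := Subgroup.normal_inf_normal _ _
    haveI : (Kp.subgroupOf N).Normal := Subgroup.Normal.subgroupOf inferInstance _
    haveI : (Kq.subgroupOf N).Normal := Subgroup.Normal.subgroupOf inferInstance _
    obtain ⟨cp, i, hi⟩ := complement (p := p) hN hpi
    obtain ⟨cq, j, hj⟩ := complement (p := q) hN hqi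
    set f := QuotientGroup.mk' K
    have hnil : Group.IsNilpotent (N.map f) := by
      let ψ : N →* (N ⧸ Kp.subgroupOf N) × (N ⧸ Kq.subgroupOf N) :=
        (QuotientGroup.mk' _).prod (QuotientGroup.mk' _)
      haveI : Group.IsNilpotent (N ⧸ Kp.subgroupOf N) :=
        (IsPGroup.of_card (p := p) (n := i) (by rw [← Subgroup.index_eq_card]; exact hi)).isNilpotent
      haveI : Group.IsNilpotent (N ⧸ Kq.subgroupOf N) :=
        (IsPGroup.of_card (p := q) (n := j) (by rw [← Subgroup.index_eq_card]; exact hj)).isNilpotent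
      haveI : Group.IsNilpotent (N ⧸ ψ.ker) :=
        Group.nilpotent_of_mulEquiv (QuotientGroup.quotientKerEquivRange ψ).symm
      let g : N ⧸ ψ.ker →* N.map f := QuotientGroup.lift ψ.ker (f.subgroupMap N) fun n hn => by
        rw [MonoidHom.mem_ker, MonoidHom.prod_apply, Prod.mk_eq_one, QuotientGroup.mk'_apply,
          QuotientGroup.mk'_apply, QuotientGroup.eq_one_iff, QuotientGroup.eq_one_iff] at hn
        exact Subtype.ext ((QuotientGroup.eq_one_iff _).2 ⟨hn.1, hn.2⟩)
      refine Group.nilpotent_of_surjective g fun y => ?_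
      obtain ⟨n, hn⟩ := f.subgroupMap_surjective N y
      exact ⟨QuotientGroup.mk n, hn⟩
    have hcard : Nat.card (N.map f) = K.relIndex N := by
      have h := Subgroup.relIndex_ker N f
      rw [QuotientGroup.ker_mk'] at h
      exact h.symm
    have hd : ∀ (s : ℕ) (M : Subgroup G) (t : ℕ), s.Prime → K ≤ M → M ≤ N → M.relIndex N = s ^ t →
        s ∣ Nat.card N → ¬ s ∣ Nat.card M → s ∣ Nat.card (N.map f) := by
      intro s M t hs hKM hMN hMt hsN hsM
      rw [hcard, ← Subgroup.relIndex_mul_relIndex K M N hKM hMN, hMt]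
      refine dvd_mul_of_dvd_right (dvd_pow_self s fun h => ?_) _
      rw [h, pow_zero, Subgroup.relIndex_eq_one] at hMt
      exact hsM (hsN.trans (Subgroup.card_dvd_of_le hMt))
    have hidx : (N.map f).index = N.index := Subgroup.index_map_eq _ (QuotientGroup.mk'_surjective K)
      (by rw [QuotientGroup.ker_mk']; exact hK)
    haveI : (N.map f).Normal := Subgroup.Normal.map inferInstance f (QuotientGroup.mk'_surjective K)
    exact nilpotent_false (p := p) (r := q) (pair_map hN hK) hnil (hidx ▸ hpi)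
      (hd p Kp i hp inf_le_left (resid_le p) hi hpN cp) hqp
      (hd q Kq j hq inf_le_right (resid_le q) hj hqN cq)
  · obtain ⟨x, hx⟩ := exists_prime_orderOf_dvd_card' q (hqi.trans (Subgroup.index_dvd_card N))
    have hxN : x ∉ N := fun h => hqN (hx ▸ Subgroup.orderOf_dvd_natCard N h)
    have hnil : Group.IsNilpotent N := by
      refine Splitting.isNilpotent_of_splitting (p := q) N x
        (by rw [Subgroup.normalizer_eq_top]; exact Subgroup.mem_top _) fun h hh => ?_
      obtain ⟨c, hc⟩ := hN x hxN (x⁻¹ * h * x) (by simpa using ‹N.Normal›.conj_mem h hh x⁻¹)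
      rw [show h * x = x * (x⁻¹ * h * x) by group, ← hc, conj_pow, ← hx, pow_orderOf_eq_one,
        mul_one, mul_inv_cancel]
    exact nilpotent_false (p := p) (r := r) hN hnil hpi hpN hrp hrN

end CfsgLib.Camina
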